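import Groth.Agent.ShLim95.Cover
import Mathlib.CategoryTheory.Sites.LocallySurjective
import Mathlib.CategoryTheory.Sites.LocallyInjective
import Mathlib.CategoryTheory.Limits.Types.Filtered

/-!
Sheafification preserves the property of sending limits of affine schemes to colimits.
-/

set_option autoImplicit false
set_option linter.style.haveILetI false
set_option backward.isDefEq.respectTransparency.types false

universe u

open CategoryTheory CategoryTheory.Limits AlgebraicGeometry Opposite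

noncomputable section

namespace Groth.Agent.ShLim95

variable {S : Scheme.{u}} {P : MorphismProperty Scheme.{u}} (hP : Good P) (F : AlgSp.PSp S)

/-- the topology -/
abbrev Jp (P : MorphismProperty Scheme.{u}) (S : Scheme.{u}) : GrothendieckTopology (Over S) :=
  QuotSh.J (Scheme.precoverage P) S

/-- the sheafification -/
abbrev shF (P : MorphismProperty Scheme.{u}) (F : AlgSp.PSp S) : AlgSp.PSp S :=
  ((presheafToSheaf (Jp P S) (Type (u + 1))).obj F).obj

/-- the unit -/
abbrev eta (P : MorphismProperty Scheme.{u}) (F : AlgSp.PSp S) : F ⟶ shF P F := toSheafify (Jp P S) F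

variable {F}

theorem map_eta {T T' : Over S} (g : T' ⟶ T) (x : F.obj (op T)) :
    (shF P F).map g.op ((eta P F).app (op T) x) = (eta P F).app (op T') (F.map g.op x) :=
  (NatTrans.naturality_apply (eta P F) g.op x).symm

theorem map_map {G : AlgSp.PSp S} {A B C : Over S} (g : B ⟶ A) (h : C ⟶ B) (x : G.obj (op A)) :
    G.map h.op (G.map g.op x) = G.map (h ≫ g).op x := by
  rw [op_comp, Functor.map_comp_apply]

theorem map_congr {G : AlgSp.PSp S} {A B B' C : Over S} {g : B ⟶ A} {h : C ⟶ B} {g' : B' ⟶ A} {h' : C ⟶ B'}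
    (e : h ≫ g = h' ≫ g') (x : G.obj (op A)) :
    G.map h.op (G.map g.op x) = G.map h'.op (G.map g'.op x) := by
  rw [map_map, map_map, e]

theorem map_trans {G : AlgSp.PSp S} {A B C : Over S} {g : B ⟶ A} {h : C ⟶ B} {k : C ⟶ A} (e : h ≫ g = k)
    (x : G.obj (op A)) : G.map h.op (G.map g.op x) = G.map k.op x := by rw [map_map, e]

theorem map_trans₃ {G : AlgSp.PSp S} {A A' B C C' : Over S} {g₁ : A' ⟶ A} {g₂ : B ⟶ A'} {h : C ⟶ B}
    {k₁ : C' ⟶ A} {k₂ : C ⟶ C'} (e : h ≫ g₂ ≫ g₁ = k₂ ≫ k₁) (x : G.obj (op A)) :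
    G.map h.op (G.map g₂.op (G.map g₁.op x)) = G.map k₂.op (G.map k₁.op x) := by
  rw [map_map, map_map, map_map, Category.assoc, e]

theorem isSheaf (P : MorphismProperty Scheme.{u}) (F : AlgSp.PSp S) :
    Presieve.IsSheaf (Jp P S) (shF P F) :=
  (isSheaf_iff_isSheaf_of_type _ _).1 ((presheafToSheaf (Jp P S) (Type (u + 1))).obj F).property

include hP in
theorem amalgamate {T : Over S} (C : Cov P T) (x : ∀ a, (shF P F).obj (op (C.U a)))
    (hx : Presieve.Arrows.Compatible (shF P F) C.u x) :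
    ∃! t, ∀ a, (shF P F).map (C.u a).op t = x a :=
  (Presieve.isSheafFor_arrows_iff _ _).1
    ((Presieve.isSheafFor_iff_generate _).2 (isSheaf P F _ (C.mem_J hP))) x hx

include hP in
theorem ext_cov {T : Over S} (C : Cov P T) {s t : (shF P F).obj (op T)}
    (h : ∀ a, (shF P F).map (C.u a).op s = (shF P F).map (C.u a).op t) : s = t :=
  (amalgamate hP C (fun a => (shF P F).map (C.u a).op t) fun _ _ _ _ _ e => map_congr e t).unique
    h (fun _ => rfl)

variable {I : Type u} [SmallCategory I] [IsCofiltered I] {D : I ⥤ Over S} {c : Cone D}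
  (hc : IsLimit ((Over.forget S).mapCone c)) [∀ i, IsAffine (D.obj i).left] [IsAffine c.pt.left]
  (hF : AlgSp.IsLimitPreserving F)

section BaseChange

variable {i : I} {U : Over S} (u : U ⟶ D.obj i)

/-- the base change of the system -/
@[simps obj]
def bcE : Over i ⥤ Over S where
  obj j := bcObj u (D.map j.hom)
  map {j k} f := Over.homMk ((LimTop61.bcDiagram (D ⋙ Over.forget S) u.left).map f)
    ((Category.assoc _ _ _).symm.trans (congrArg (· ≫ U.hom) (pullback.lift_fst _ _ _)))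
  map_id j := Over.OverMorphism.ext ((LimTop61.bcDiagram (D ⋙ Over.forget S) u.left).map_id j)
  map_comp f g := Over.OverMorphism.ext ((LimTop61.bcDiagram (D ⋙ Over.forget S) u.left).map_comp f g)

omit [IsCofiltered I] [∀ i, IsAffine (D.obj i).left] in
theorem bcE_map_fst {j k : Over i} (f : j ⟶ k) :
    (bcE u).map f ≫ bcFst u (D.map k.hom) = bcFst u (D.map j.hom) :=
  Over.OverMorphism.ext (pullback.lift_fst _ _ _)

omit [IsCofiltered I] [∀ i, IsAffine (D.obj i).left] in
theorem bcE_map_snd {j k : Over i} (f : j ⟶ k) :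
    (bcE u).map f ≫ bcSnd u (D.map k.hom) = bcSnd u (D.map j.hom) ≫ D.map f.left :=
  Over.OverMorphism.ext (pullback.lift_snd _ _ _)

variable {V : Over S} (q : V ⟶ U) (p : V ⟶ c.pt) (sq : IsPullback q.left p.left u.left (c.π.app i).left)

/-- the base change of the cone -/
@[simps pt]
def bcCn : Cone (bcE u) where
  pt := V
  π :=
  { app j := Over.homMk ((LimTop61.bcCone (D ⋙ Over.forget S) ((Over.forget S).mapCone c) u.left q.left p.left
      sq.w).π.app j) (((Category.assoc _ _ _).symm.trans (congrArg (· ≫ U.hom) (pullback.lift_fst _ _ _))).trans (Over.w q))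
    naturality j k f := Over.OverMorphism.ext
      ((LimTop61.bcCone (D ⋙ Over.forget S) ((Over.forget S).mapCone c) u.left q.left p.left sq.w).π.naturality f) }

omit [IsCofiltered I] [∀ i, IsAffine (D.obj i).left] [IsAffine c.pt.left] in
theorem bcCn_fst (j : Over i) : (bcCn u q p sq).π.app j ≫ bcFst u (D.map j.hom) = q :=
  Over.OverMorphism.ext (pullback.lift_fst _ _ _)

omit [IsCofiltered I] [∀ i, IsAffine (D.obj i).left] [IsAffine c.pt.left] in
theorem bcCn_snd (j : Over i) : (bcCn u q p sq).π.app j ≫ bcSnd u (D.map j.hom) = p ≫ c.π.app j.left :=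
  Over.OverMorphism.ext (pullback.lift_snd _ _ _)

include hc in
omit [∀ i, IsAffine (D.obj i).left] [IsAffine c.pt.left] in
theorem nonempty_isLimit_bcCn : Nonempty (IsLimit ((Over.forget S).mapCone (bcCn u q p sq))) :=
  ⟨IsLimit.ofIsoLimit (LimTop61.isLimitBcCone (D ⋙ Over.forget S) ((Over.forget S).mapCone c) hc
    u.left q.left p.left sq) (Cone.ext (Iso.refl _) fun j => (Category.id_comp _).symm)⟩

include hc in
omit [IsCofiltered I] [∀ i, IsAffine (D.obj i).left] [IsAffine c.pt.left] in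
theorem isAffine_bcObj [IsAffine U.left] (j : Over i) [IsAffine (D.obj i).left] [IsAffine (D.obj j.left).left] :
    IsAffine (bcObj u (D.map j.hom)).left :=
  inferInstanceAs (IsAffine (pullback u.left (D.map j.hom).left))

end BaseChange

include hc hF in
/-- Two sections over stages agreeing in the limit agree at a stage. -/
theorem presheaf_inj {i : I} (x y : F.obj (op (D.obj i)))
    (h : F.map (c.π.app i).op x = F.map (c.π.app i).op y) :
    ∃ (j : I) (φ : j ⟶ i), F.map (D.map φ).op x = F.map (D.map φ).op y := by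
  obtain ⟨hcol⟩ := hF D c hc (fun _ => inferInstance) inferInstance
  obtain ⟨j, a, b, e⟩ := (Types.FilteredColimit.isColimit_eq_iff _ hcol (i := op i) (j := op i)
    (xi := x) (xj := y)).1 h
  refine ⟨IsCofiltered.eq a.unop b.unop, IsCofiltered.eqHom a.unop b.unop ≫ a.unop, ?_⟩
  have e' := congrArg (F.map (D.map (IsCofiltered.eqHom a.unop b.unop)).op) e
  rw [D.map_comp, op_comp, Functor.map_comp_apply, Functor.map_comp_apply]
  exact e'.trans (map_congr (g := D.map b.unop) (g' := D.map a.unop)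
    (by rw [← D.map_comp, ← D.map_comp, IsCofiltered.eq_condition]) y)

include hc hF in
theorem presheaf_surj (x : F.obj (op c.pt)) :
    ∃ (i : I) (y : F.obj (op (D.obj i))), F.map (c.π.app i).op y = x := by
  obtain ⟨hcol⟩ := hF D c hc (fun _ => inferInstance) inferInstance
  obtain ⟨j, y, hy⟩ := Types.jointly_surjective _ hcol x
  exact ⟨j.unop, y, hy⟩

include hP hc hF in
/-- Images in the sheafification agreeing in the limit agree at a stage. -/
theorem eta_inj {i : I} (x y : F.obj (op (D.obj i)))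
    (h : (shF P F).map (c.π.app i).op ((eta P F).app _ x) = (shF P F).map (c.π.app i).op ((eta P F).app _ y)) :
    ∃ (j : I) (φ : j ⟶ i), (shF P F).map (D.map φ).op ((eta P F).app _ x) =
      (shF P F).map (D.map φ).op ((eta P F).app _ y) := by
  classical
  rw [map_eta, map_eta] at h
  obtain ⟨C, hC⟩ := exists_cov hP (T := c.pt) (Presheaf.equalizerSieve_mem (Jp P S) (eta P F) _ _ h)
  obtain ⟨m, a₀, U₀, u₀, q, haff, hprop, hsurj, sq⟩ := Cov.descendOver D c hc hP C i
  have key : ∀ a : C.ι, ∃ k : Over m, F.map (bcSnd (u₀ a) (D.map k.hom)).op (F.map (D.map (k.hom ≫ a₀)).op x) =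
      F.map (bcSnd (u₀ a) (D.map k.hom)).op (F.map (D.map (k.hom ≫ a₀)).op y) := by
    intro a
    haveI := C.aff a
    haveI := haff a
    haveI : ∀ j : Over m, IsAffine ((bcE (u₀ a)).obj j).left := fun j => isAffine_bcObj hc _ j
    haveI : IsAffine (bcCn (u₀ a) (q a) (C.u a) (sq a)).pt.left := inferInstanceAs (IsAffine (C.U a).left)
    obtain ⟨hlim⟩ := nonempty_isLimit_bcCn hc (u₀ a) (q a) (C.u a) (sq a)
    let k₀ : Over m := Over.mk (𝟙 m)
    let z := fun w : F.obj (op (D.obj i)) => F.map (bcSnd (u₀ a) (D.map k₀.hom)).op (F.map (D.map a₀).op w)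
    have hz : ∀ w, F.map ((bcCn (u₀ a) (q a) (C.u a) (sq a)).π.app k₀).op (z w) =
        F.map (C.u a).op (F.map (c.π.app i).op w) := fun w => by
      refine map_trans₃ ?_ w
      rw [← Category.assoc]
      refine (congrArg (· ≫ D.map a₀) (bcCn_snd _ _ _ _ _)).trans ?_
      exact (Category.assoc _ _ _).trans (congrArg (C.u a ≫ ·) (c.w a₀))
    obtain ⟨k, φ, hk⟩ := presheaf_inj (D := bcE (u₀ a)) hlim hF (z x) (z y) (by rw [hz, hz]; exact hC a)
    refine ⟨k, ?_⟩
    have hφ : φ.left = k.hom := by simpa [k₀] using Over.w φ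
    have e : ∀ w, F.map ((bcE (u₀ a)).map φ).op (z w) =
        F.map (bcSnd (u₀ a) (D.map k.hom)).op (F.map (D.map (k.hom ≫ a₀)).op w) := fun w => by
      refine map_trans₃ ?_ w
      rw [← Category.assoc]
      refine (congrArg (· ≫ D.map a₀) (bcE_map_snd _ φ)).trans ?_
      refine (Category.assoc _ _ _).trans (congrArg (bcSnd (u₀ a) (D.map k.hom) ≫ ·) ?_)
      rw [hφ]
      exact (D.map_comp _ _).symm
    rw [← e, ← e]
    exact hk
  choose k hk using key
  haveI := C.fin
  haveI := Fintype.ofFinite C.ι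
  obtain ⟨k₁, hk₁⟩ := IsCofiltered.inf_objs_exists (insert (Over.mk (𝟙 m)) (Finset.univ.image k))
  let C₀ : Cov P (D.obj m) := ⟨C.ι, C.fin, U₀, u₀, haff, hprop, hsurj⟩
  refine ⟨k₁.left, k₁.hom ≫ a₀, ext_cov hP (C₀.bc hP (D.map k₁.hom)) fun (a : C.ι) => ?_⟩
  obtain ⟨f⟩ : Nonempty (k₁ ⟶ k a) :=
    hk₁ (Finset.mem_insert_of_mem (Finset.mem_image_of_mem k (Finset.mem_univ a)))
  show (shF P F).map (bcSnd (u₀ a) (D.map k₁.hom)).op _ = (shF P F).map (bcSnd (u₀ a) (D.map k₁.hom)).op _
  rw [map_eta, map_eta, map_eta, map_eta]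
  refine congrArg _ ?_
  have e : ∀ w, F.map ((bcE (u₀ a)).map f).op
      (F.map (bcSnd (u₀ a) (D.map (k a).hom)).op (F.map (D.map ((k a).hom ≫ a₀)).op w)) =
        F.map (bcSnd (u₀ a) (D.map k₁.hom)).op (F.map (D.map (k₁.hom ≫ a₀)).op w) := fun w => by
    refine map_trans₃ ?_ w
    rw [← Category.assoc]
    refine (congrArg (· ≫ _) (bcE_map_snd _ f)).trans ?_
    refine (Category.assoc _ _ _).trans (congrArg (bcSnd (u₀ a) (D.map k₁.hom) ≫ ·) ?_)
    exact (D.map_comp _ _).symm.trans (congrArg D.map ((Category.assoc _ _ _).symm.trans (congrArg (· ≫ a₀) (Over.w f))))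
  rw [← e, ← e, hk a]

include hP hc hF in
/-- Sections of the sheafification agreeing in the limit agree at a stage. -/
theorem sheaf_inj {i : I} (s t : (shF P F).obj (op (D.obj i)))
    (h : (shF P F).map (c.π.app i).op s = (shF P F).map (c.π.app i).op t) :
    ∃ (j : I) (φ : j ⟶ i), (shF P F).map (D.map φ).op s = (shF P F).map (D.map φ).op t := by
  classical
  obtain ⟨C, hC⟩ := exists_cov hP (T := D.obj i) ((Jp P S).intersection_covering
    (Presheaf.imageSieve_mem (Jp P S) (eta P F) s) (Presheaf.imageSieve_mem (Jp P S) (eta P F) t))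
  have hC₁ : ∀ a, ∃ x, (eta P F).app _ x = (shF P F).map (C.u a).op s := fun a => (hC a).1
  have hC₂ : ∀ a, ∃ y, (eta P F).app _ y = (shF P F).map (C.u a).op t := fun a => (hC a).2
  choose x hx using hC₁
  choose y hy using hC₂
  have key : ∀ a : C.ι, ∃ k : Over i, (shF P F).map (bcSnd (C.u a) (D.map k.hom)).op ((shF P F).map (D.map k.hom).op s) =
      (shF P F).map (bcSnd (C.u a) (D.map k.hom)).op ((shF P F).map (D.map k.hom).op t) := by
    intro a
    haveI := C.aff a
    haveI : ∀ j : Over i, IsAffine ((bcE (C.u a)).obj j).left := fun j => isAffine_bcObj hc _ j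
    have sq := IsPullback.of_hasPullback (C.u a).left (c.π.app i).left
    let cn := bcCn (C.u a) (bcFst (C.u a) (c.π.app i)) (bcSnd (C.u a) (c.π.app i)) sq
    haveI : IsAffine (((Functor.const I).obj c.pt).obj i).left := ‹IsAffine c.pt.left›
    haveI : IsAffineHom (c.π.app i).left := isAffineHom_of_isAffine _
    haveI : IsAffine cn.pt.left :=
      @isAffine_of_isAffineHom _ _ (pullback.fst (C.u a).left (c.π.app i).left)
        (MorphismProperty.pullback_fst (P := @IsAffineHom) _ _ inferInstance) inferInstance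
    obtain ⟨hlim⟩ := nonempty_isLimit_bcCn hc (C.u a) (bcFst (C.u a) (c.π.app i)) (bcSnd (C.u a) (c.π.app i)) sq
    let k₀ : Over i := Over.mk (𝟙 i)
    have hz : ∀ (v : F.obj (op (C.U a))) (r : (shF P F).obj (op (D.obj i))),
        (eta P F).app _ v = (shF P F).map (C.u a).op r →
        (shF P F).map (cn.π.app k₀).op ((eta P F).app _ (F.map (bcFst (C.u a) (D.map k₀.hom)).op v)) =
          (shF P F).map (bcSnd (C.u a) (c.π.app i)).op ((shF P F).map (c.π.app i).op r) := fun v r hr => by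
      refine (congrArg _ (map_eta (bcFst (C.u a) (D.map k₀.hom)) v).symm).trans ?_
      refine (map_trans (bcCn_fst _ _ _ sq k₀) _).trans ?_
      rw [hr]
      exact map_congr (bc_condition _ _) r
    obtain ⟨k, φ, hk⟩ := eta_inj hP (D := bcE (C.u a)) hlim hF
      (F.map (bcFst (C.u a) (D.map k₀.hom)).op (x a)) (F.map (bcFst (C.u a) (D.map k₀.hom)).op (y a))
      (by rw [hz _ _ (hx a), hz _ _ (hy a), h])
    refine ⟨k, ?_⟩
    have e : ∀ (v : F.obj (op (C.U a))) (r : (shF P F).obj (op (D.obj i))),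
        (eta P F).app _ v = (shF P F).map (C.u a).op r →
        (shF P F).map ((bcE (C.u a)).map φ).op ((eta P F).app _ (F.map (bcFst (C.u a) (D.map k₀.hom)).op v)) =
          (shF P F).map (bcSnd (C.u a) (D.map k.hom)).op ((shF P F).map (D.map k.hom).op r) := fun v r hr => by
      refine (congrArg _ (map_eta (bcFst (C.u a) (D.map k₀.hom)) v).symm).trans ?_
      refine (map_trans (bcE_map_fst _ φ) _).trans ?_
      rw [hr]
      exact map_congr (bc_condition _ _) r
    rw [← e _ _ (hx a), ← e _ _ (hy a)]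
    exact hk
  choose k hk using key
  haveI := C.fin
  haveI := Fintype.ofFinite C.ι
  obtain ⟨k₁, hk₁⟩ := IsCofiltered.inf_objs_exists (insert (Over.mk (𝟙 i)) (Finset.univ.image k))
  refine ⟨k₁.left, k₁.hom, ext_cov hP (C.bc hP (D.map k₁.hom)) fun (a : C.ι) => ?_⟩
  obtain ⟨f⟩ : Nonempty (k₁ ⟶ k a) :=
    hk₁ (Finset.mem_insert_of_mem (Finset.mem_image_of_mem k (Finset.mem_univ a)))
  have e : ∀ r, (shF P F).map ((bcE (C.u a)).map f).op
      ((shF P F).map (bcSnd (C.u a) (D.map (k a).hom)).op ((shF P F).map (D.map (k a).hom).op r)) =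
        (shF P F).map (bcSnd (C.u a) (D.map k₁.hom)).op ((shF P F).map (D.map k₁.hom).op r) := fun r => by
    refine map_trans₃ ?_ r
    rw [← Category.assoc]
    refine (congrArg (· ≫ _) (bcE_map_snd _ f)).trans ?_
    exact (Category.assoc _ _ _).trans (congrArg (bcSnd (C.u a) (D.map k₁.hom) ≫ ·)
      ((D.map_comp _ _).symm.trans (congrArg D.map (Over.w f))))
  show (shF P F).map (bcSnd (C.u a) (D.map k₁.hom)).op _ = (shF P F).map (bcSnd (C.u a) (D.map k₁.hom)).op _
  rw [← e, ← e, hk a]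

include hP hc hF in
/-- Sections of the sheafification over the limit come from a stage. -/
theorem sheaf_surj (s : (shF P F).obj (op c.pt)) :
    ∃ (i : I) (t : (shF P F).obj (op (D.obj i))), (shF P F).map (c.π.app i).op t = s := by
  classical
  obtain ⟨i₀⟩ := IsCofiltered.nonempty (C := I)
  obtain ⟨C, hC⟩ := exists_cov hP (T := c.pt) (Presheaf.imageSieve_mem (Jp P S) (eta P F) s)
  have hC₁ : ∀ a, ∃ x, (eta P F).app _ x = (shF P F).map (C.u a).op s := hC
  choose x hx using hC₁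
  obtain ⟨m, -, U₀, u₀, q, haff, hprop, hsurj, sq⟩ := Cov.descendOver D c hc hP C i₀
  haveI := C.fin
  haveI := Fintype.ofFinite C.ι
  -- lift the local sections
  have key : ∀ a, ∃ (k : Over m) (y : F.obj (op (bcObj (u₀ a) (D.map k.hom)))),
      F.map ((bcCn (u₀ a) (q a) (C.u a) (sq a)).π.app k).op y = x a := fun a => by
    haveI := C.aff a
    haveI := haff a
    haveI : ∀ j : Over m, IsAffine ((bcE (u₀ a)).obj j).left := fun j => isAffine_bcObj hc _ j
    haveI : IsAffine (bcCn (u₀ a) (q a) (C.u a) (sq a)).pt.left := inferInstanceAs (IsAffine (C.U a).left)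
    obtain ⟨hlim⟩ := nonempty_isLimit_bcCn hc (u₀ a) (q a) (C.u a) (sq a)
    exact presheaf_surj (D := bcE (u₀ a)) hlim hF (x a)
  choose k y hy using key
  obtain ⟨k₁, hk₁⟩ := IsCofiltered.inf_objs_exists (insert (Over.mk (𝟙 m)) (Finset.univ.image k))
  let f₁ : ∀ a, k₁ ⟶ k a := fun a =>
    (hk₁ (Finset.mem_insert_of_mem (Finset.mem_image_of_mem k (Finset.mem_univ a)))).some
  let n := k₁.left
  let C₀ : Cov P (D.obj m) := ⟨C.ι, C.fin, U₀, u₀, haff, hprop, hsurj⟩
  let C₁ : Cov P (D.obj n) := C₀.bc hP (D.map k₁.hom)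
  let y₁ : ∀ a : C.ι, F.obj (op (bcObj (u₀ a) (D.map k₁.hom))) := fun a => F.map ((bcE (u₀ a)).map (f₁ a)).op (y a)
  let q₁ : ∀ a : C.ι, C.U a ⟶ bcObj (u₀ a) (D.map k₁.hom) := fun a =>
    (bcCn (u₀ a) (q a) (C.u a) (sq a)).π.app k₁
  have hy₁ : ∀ a, (shF P F).map (q₁ a).op ((eta P F).app _ (y₁ a)) = (shF P F).map (C.u a).op s := fun a => by
    rw [map_eta, ← hx]
    refine congrArg _ ?_
    exact (map_trans ((bcCn (u₀ a) (q a) (C.u a) (sq a)).w (f₁ a)) (y a)).trans (hy a)
  have sq₁ : ∀ a, IsPullback (q₁ a).left (C.u a).left (bcSnd (u₀ a) (D.map k₁.hom)).left (c.π.app n).left := fun a =>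
    isPullback_bcLift D c k₁.hom (u₀ a) (C.u a) (q a) (sq a) (by
      rw [Category.assoc, c.w]; exact Over.OverMorphism.ext (sq a).w)
  have hq₁ : ∀ a, q₁ a ≫ bcSnd (u₀ a) (D.map k₁.hom) = C.u a ≫ c.π.app n := fun a => bcCn_snd _ _ _ _ _
  -- agreement on overlaps
  have key₂ : ∀ ab : C.ι × C.ι, ∃ k : Over n, ∀ (Z : Over S) (g : Z ⟶ D.obj k.left)
      (g₁ : Z ⟶ C₁.U ab.1) (g₂ : Z ⟶ C₁.U ab.2), g₁ ≫ C₁.u ab.1 = g ≫ D.map k.hom →
        g₂ ≫ C₁.u ab.2 = g ≫ D.map k.hom →
        (shF P F).map g₁.op ((eta P F).app _ (y₁ ab.1)) = (shF P F).map g₂.op ((eta P F).app _ (y₁ ab.2)) := by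
    rintro ⟨a, b⟩
    haveI := C₁.aff a
    haveI := C₁.aff b
    let fa : bcObj (C₁.u a) (C₁.u b) ⟶ C₁.U a := bcFst (C₁.u a) (C₁.u b)
    let fb : bcObj (C₁.u a) (C₁.u b) ⟶ C₁.U b := bcSnd (C₁.u a) (C₁.u b)
    let uab : bcObj (C₁.u a) (C₁.u b) ⟶ D.obj n := fb ≫ C₁.u b
    haveI : IsAffine (bcObj (C₁.u a) (C₁.u b)).left :=
      inferInstanceAs (IsAffine (pullback (C₁.u a).left (C₁.u b).left))
    haveI : ∀ j : Over n, IsAffine ((bcE uab).obj j).left := fun j => isAffine_bcObj hc _ j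
    have sqab := IsPullback.of_hasPullback uab.left (c.π.app n).left
    let qV := bcFst uab (c.π.app n)
    let pV := bcSnd uab (c.π.app n)
    let cn := bcCn uab qV pV sqab
    haveI : IsAffine (((Functor.const I).obj c.pt).obj n).left := ‹IsAffine c.pt.left›
    haveI : IsAffineHom (c.π.app n).left := isAffineHom_of_isAffine _
    haveI : IsAffine cn.pt.left :=
      @isAffine_of_isAffineHom _ _ (pullback.fst uab.left (c.π.app n).left)
        (MorphismProperty.pullback_fst (P := @IsAffineHom) _ _ inferInstance) inferInstance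
    obtain ⟨hlim⟩ := nonempty_isLimit_bcCn hc uab qV pV sqab
    let k₀ : Over n := Over.mk (𝟙 n)
    have hz : ∀ (e : C.ι) (g : bcObj (C₁.u a) (C₁.u b) ⟶ C₁.U e), g ≫ C₁.u e = uab →
        (shF P F).map qV.op ((shF P F).map g.op ((eta P F).app _ (y₁ e))) = (shF P F).map pV.op s := by
      intro e g hg
      have w : (qV ≫ g).left ≫ (bcSnd (u₀ e) (D.map k₁.hom)).left = pV.left ≫ (c.π.app n).left := by
        refine Eq.trans ?_ (congrArg CommaMorphism.left (bc_condition uab (c.π.app n)))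
        exact congrArg CommaMorphism.left ((Category.assoc qV g (C₁.u e)).trans (congrArg (qV ≫ ·) hg))
      let r : bcObj uab (c.π.app n) ⟶ C.U e := Over.homMk ((sq₁ e).lift (qV ≫ g).left pV.left w) (by
        rw [← Over.w (C.u e), ← Category.assoc, (sq₁ e).lift_snd]
        exact Over.w pV)
      have hr₁ : r ≫ q₁ e = qV ≫ g := Over.OverMorphism.ext ((sq₁ e).lift_fst _ _ w)
      have hr₂ : r ≫ C.u e = pV := Over.OverMorphism.ext ((sq₁ e).lift_snd _ _ w)
      exact (map_congr hr₁.symm _).trans ((congrArg _ (hy₁ e)).trans (map_trans hr₂ s))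
    obtain ⟨k, φ, hk⟩ := sheaf_inj hP (D := bcE uab) hlim hF
      ((shF P F).map (bcFst uab (D.map k₀.hom)).op ((shF P F).map fa.op ((eta P F).app _ (y₁ a))))
      ((shF P F).map (bcFst uab (D.map k₀.hom)).op ((shF P F).map fb.op ((eta P F).app _ (y₁ b)))) (by
        exact ((map_trans (bcCn_fst _ _ _ sqab k₀) _).trans (hz a fa (bc_condition _ _))).trans
          ((map_trans (bcCn_fst _ _ _ sqab k₀) _).trans (hz b fb rfl)).symm)
    refine ⟨k, fun Z g g₁ g₂ h₁ h₂ => ?_⟩
    let w₀ : Z ⟶ bcObj (C₁.u a) (C₁.u b) := bcLift _ _ g₁ g₂ (h₁.trans h₂.symm)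
    have hw₀ : w₀ ≫ uab = g ≫ D.map k.hom := by
      rw [← h₂]
      exact (Category.assoc _ _ _).symm.trans (congrArg (· ≫ _) (bcLift_snd _ _ _ _ _))
    let w₁ : Z ⟶ bcObj uab (D.map k.hom) := bcLift _ _ w₀ g hw₀
    have e₁ : ∀ (W : Over S) (g' : bcObj (C₁.u a) (C₁.u b) ⟶ W) (v : (shF P F).obj (op W)),
        (shF P F).map w₁.op ((shF P F).map ((bcE uab).map φ).op
          ((shF P F).map (bcFst uab (D.map k₀.hom)).op ((shF P F).map g'.op v))) =
          (shF P F).map (w₀ ≫ g').op v := fun W g' v =>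
      ((congrArg _ (map_trans (bcE_map_fst uab φ) _)).trans
        (map_trans (bcLift_fst _ _ _ _ _) _)).trans (map_map g' w₀ v)
    have e := ((e₁ _ fa _).symm.trans (congrArg _ hk)).trans (e₁ _ fb _)
    rwa [show w₀ ≫ fa = g₁ from bcLift_fst _ _ _ _ _, show w₀ ≫ fb = g₂ from bcLift_snd _ _ _ _ _] at e
  choose k₂ hk₂ using key₂
  obtain ⟨n', hn'⟩ := IsCofiltered.inf_objs_exists (insert (Over.mk (𝟙 n)) (Finset.univ.image k₂))
  let C₂ : Cov P (D.obj n'.left) := C₁.bc hP (D.map n'.hom)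
  let z : ∀ a : C.ι, (shF P F).obj (op (C₂.U a)) := fun a =>
    (shF P F).map (bcFst (C₁.u a) (D.map n'.hom)).op ((eta P F).app _ (y₁ a))
  obtain ⟨t, ht, -⟩ := amalgamate hP C₂ z fun (a b : C.ι) Z ga gb h => by
    obtain ⟨f⟩ : Nonempty (n' ⟶ k₂ (a, b)) :=
      hn' (Finset.mem_insert_of_mem (Finset.mem_image_of_mem (α := C.ι × C.ι) k₂ (Finset.mem_univ ((a, b) : C.ι × C.ι))))
    refine (map_map _ ga _).trans (Eq.trans ?_ (map_map _ gb _).symm)
    refine hk₂ (a, b) Z ((ga ≫ C₂.u a) ≫ D.map f.left) _ _ ?_ ?_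
    · refine ((Category.assoc _ _ _).trans (congrArg (ga ≫ ·) (bc_condition _ _))).trans ?_
      rw [Category.assoc, ← D.map_comp, Over.w f]
      exact (Category.assoc _ _ _).symm
    · refine ((Category.assoc _ _ _).trans (congrArg (gb ≫ ·) (bc_condition _ _))).trans ?_
      rw [Category.assoc (ga ≫ C₂.u a), ← D.map_comp, Over.w f, h]
      exact (Category.assoc _ _ _).symm
  refine ⟨n'.left, t, ext_cov hP C fun a => ?_⟩
  let r : C.U a ⟶ C₂.U a := bcLift (C₁.u a) (D.map n'.hom) (q₁ a) (C.u a ≫ c.π.app n'.left) (by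
    rw [Category.assoc, c.w]; exact hq₁ a)
  have hr : r ≫ C₂.u a = C.u a ≫ c.π.app n'.left := bcLift_snd _ _ _ _ _
  rw [map_map, ← hr, ← map_map, ht a, ← hy₁ a]
  exact map_trans (bcLift_fst _ _ _ _ _) _

include hP hF in
theorem isLimitPreserving_shF : AlgSp.IsLimitPreserving (shF P F) := by
  intro J _ _ E e he hE hT
  haveI := hE
  haveI := hT
  refine ⟨Types.FilteredColimit.isColimitOf _ _ (fun x => ?_) fun i j xi xj h => ?_⟩
  · obtain ⟨i, t, ht⟩ := sheaf_surj hP he hF x
    exact ⟨op i, t, ht.symm⟩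
  · obtain ⟨m, a, b, -⟩ := IsCofilteredOrEmpty.cone_objs i.unop j.unop
    obtain ⟨n, φ, hn⟩ := sheaf_inj hP he hF ((shF P F).map (E.map a).op xi) ((shF P F).map (E.map b).op xj) (by
      rw [map_map, map_map, e.w, e.w]; exact h)
    rw [map_map, map_map, ← E.map_comp, ← E.map_comp] at hn
    exact ⟨op n, (φ ≫ a).op, (φ ≫ b).op, hn⟩

end Groth.Agent.ShLim95
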