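import Groth.Prelude.Def_AlgSpRep
import Groth.Agent.S0591
import Groth.Agent.S9186
import Groth.Agent.S9192
import Groth.Agent.S2075
import Groth.Agent.LimTop61.BaseChange
import Mathlib.AlgebraicGeometry.Sites.Etale
import Mathlib.AlgebraicGeometry.Sites.Fpqc

/-!
Finite affine coverings of affine schemes for topologies between étale and fppf, and their descent
along limits.
-/

set_option autoImplicit false
set_option linter.style.haveILetI false
set_option backward.isDefEq.respectTransparency.types false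

universe u

open CategoryTheory CategoryTheory.Limits AlgebraicGeometry Opposite

noncomputable section

namespace Groth.Agent.ShLim95

/-- What is used of the class of covering morphisms. -/
structure Good (P : MorphismProperty Scheme.{u}) : Prop where
  bc : P.IsStableUnderBaseChange
  comp : P.IsStableUnderComposition
  openImm : ∀ {X Y : Scheme.{u}} (f : X ⟶ Y) [IsOpenImmersion f], P f
  flat : ∀ {X Y : Scheme.{u}} {f : X ⟶ Y}, P f → Flat f
  lfp : ∀ {X Y : Scheme.{u}} {f : X ⟶ Y}, P f → LocallyOfFinitePresentation f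
  descend : ∀ {I : Type u} [SmallCategory I] [IsCofiltered I] (D : I ⥤ Scheme.{u}) (c : Cone D)
    (_ : IsLimit c) [∀ (i j : I) (f : i ⟶ j), IsAffineHom (D.map f)] (i : I) [IsAffine (D.obj i)]
    {Xi X : Scheme.{u}} [CompactSpace Xi] [QuasiSeparatedSpace Xi]
    (fi : Xi ⟶ D.obj i) [LocallyOfFinitePresentation fi] (f : X ⟶ c.pt) (q : X ⟶ Xi)
    (_ : IsPullback q f fi (c.π.app i)), P f → ∃ (j : I) (φ : j ⟶ i), P (pullback.snd fi (D.map φ))

theorem snd_of_squares {Q : MorphismProperty Scheme.{u}} [Q.RespectsIso] {Xi Y₀ A B Z : Scheme.{u}}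
    {fi : Xi ⟶ Y₀} {d : Z ⟶ Y₀} {f : A ⟶ B} {g : B ⟶ Z} {pY : B ⟶ Y₀} {pX : A ⟶ Xi}
    (hY : IsPullback pY g (𝟙 Y₀) d) (hX : IsPullback pX f fi pY) (h : Q f) : Q (pullback.snd fi d) := by
  haveI : IsIso g := hY.isIso_snd_of_isIso
  have hpY : pY = g ≫ d := by simpa using hY.w
  have sq : IsPullback pX (f ≫ g) fi d := hX.of_iso (Iso.refl _) (Iso.refl _) (asIso g) (Iso.refl _)
    (by simp) (by simp) (by simp) (by simp [hpY])
  rw [← Q.cancel_left_of_respectsIso sq.isoPullback.hom, IsPullback.isoPullback_hom_snd,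
    Q.cancel_right_of_respectsIso]
  exact h

theorem good_etale : Good.{u} @Etale where
  bc := inferInstance
  comp := inferInstance
  openImm := fun _ _ => inferInstance
  flat := fun h => by haveI := h; infer_instance
  lfp := fun h => by haveI := h; infer_instance
  descend := fun D c hc _ i _ Xi X _ _ fi _ f q hq h => by
    haveI := h
    obtain ⟨j, φ, A, B, a, b, pY, pX, hY, hX, ha⟩ := Groth.Agent.S9192.result D c hc i fi (𝟙 _) f
      (𝟙 c.pt) (c.π.app i) q (IsPullback.of_vert_isIso ⟨by simp⟩) hq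
    exact ⟨j, φ, snd_of_squares hY hX ha⟩

theorem good_fppf : Good.{u} (@Flat ⊓ @LocallyOfFinitePresentation) where
  bc := inferInstance
  comp := inferInstance
  openImm := fun _ _ => ⟨inferInstance, inferInstance⟩
  flat := fun h => h.1
  lfp := fun h => h.2
  descend := fun D c hc _ i _ Xi X _ _ fi _ f q hq h => by
    haveI := h.1
    obtain ⟨j, φ, A, B, a, b, pY, pX, hY, hX, ha⟩ := Groth.Agent.S2075.result D c hc i fi (𝟙 _) f
      (𝟙 c.pt) (c.π.app i) q (IsPullback.of_vert_isIso ⟨by simp⟩) hq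
    exact ⟨j, φ, snd_of_squares hY hX ha, inferInstance⟩

variable {S : Scheme.{u}} {P : MorphismProperty Scheme.{u}}

/-- A finite covering of an affine scheme by affine schemes. -/
structure Cov (P : MorphismProperty Scheme.{u}) (T : Over S) where
  ι : Type u
  fin : Finite ι
  U : ι → Over S
  u : ∀ a, U a ⟶ T
  aff : ∀ a, IsAffine (U a).left
  prop : ∀ a, P (u a).left
  surj : ∀ x : T.left, ∃ a y, (u a).left y = x

/-- Base change of an object over `S`. -/
abbrev bcObj {T U T' : Over S} (u : U ⟶ T) (g : T' ⟶ T) : Over S :=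
  Over.mk (pullback.fst u.left g.left ≫ U.hom)

/-- The projection to the covering. -/
abbrev bcFst {T U T' : Over S} (u : U ⟶ T) (g : T' ⟶ T) : bcObj u g ⟶ U :=
  Over.homMk (pullback.fst u.left g.left) rfl

/-- The projection to the base. -/
abbrev bcSnd {T U T' : Over S} (u : U ⟶ T) (g : T' ⟶ T) : bcObj u g ⟶ T' :=
  Over.homMk (pullback.snd u.left g.left) (by
    show _ = pullback.fst u.left g.left ≫ U.hom
    rw [← Over.w u, ← Over.w g, ← Category.assoc, ← Category.assoc, pullback.condition])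

theorem bc_condition {T U T' : Over S} (u : U ⟶ T) (g : T' ⟶ T) : bcFst u g ≫ u = bcSnd u g ≫ g :=
  Over.OverMorphism.ext pullback.condition

/-- Base change of a covering. -/
def Cov.bc (hP : Good P) {T T' : Over S} (C : Cov P T) (g : T' ⟶ T) [IsAffine T.left] [IsAffine T'.left] :
    Cov P T' where
  ι := C.ι
  fin := C.fin
  U a := bcObj (C.u a) g
  u a := bcSnd (C.u a) g
  aff a := haveI := C.aff a; inferInstanceAs (IsAffine (pullback (C.u a).left g.left))
  prop a := haveI := hP.bc; MorphismProperty.pullback_snd _ _ (C.prop a)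
  surj x := by
    obtain ⟨a, y, hy⟩ := C.surj (g.left x)
    obtain ⟨z, -, hz⟩ := Scheme.Pullback.exists_preimage_pullback y x hy
    exact ⟨a, z, hz⟩

theorem Cov.mem_J (hP : Good P) {T : Over S} (C : Cov P T) :
    Sieve.generate (Presieve.ofArrows C.U C.u) ∈ QuotSh.J (Scheme.precoverage P) S T := by
  haveI := hP.comp
  haveI := hP.bc
  haveI : P.ContainsIdentities := ⟨fun X => hP.openImm (𝟙 X)⟩
  haveI : (Scheme.precoverage P).HasIsos := inferInstance
  rw [GrothendieckTopology.mem_over_iff]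
  refine (Scheme.precoverage P).toGrothendieck.superset_covering ?_
    (Precoverage.generate_mem_toGrothendieck ((Scheme.ofArrows_mem_precoverage_iff
      (f := fun a => (C.u a).left) P).2 ⟨fun x => C.surj x, fun a => C.prop a⟩))
  rw [Sieve.generate_le_iff]
  rintro Y f ⟨a⟩
  refine (Sieve.overEquiv_iff _ _).2 ?_
  refine ⟨C.U a, Over.homMk (𝟙 _) (by simp), C.u a, Presieve.ofArrows.mk a, ?_⟩
  exact Over.OverMorphism.ext (Category.id_comp _)

/-- Covering sieves of affine schemes contain finite affine coverings. -/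
theorem exists_cov (hP : Good P) {T : Over S} [IsAffine T.left] {R : Sieve T}
    (hR : R ∈ QuotSh.J (Scheme.precoverage P) S T) : ∃ C : Cov P T, ∀ a, R (C.u a) := by
  classical
  haveI := hP.comp
  haveI := hP.bc
  haveI : P.ContainsIdentities := ⟨fun X => hP.openImm (𝟙 X)⟩
  haveI : (Scheme.precoverage P).HasIsos := inferInstance
  rw [GrothendieckTopology.mem_over_iff] at hR
  obtain ⟨Rp, hRp, hRS⟩ := Precoverage.mem_toGrothendieck_iff_of_isStableUnderComposition.1 hR
  obtain ⟨ι, Y, f, rfl⟩ := Presieve.exists_eq_ofArrows Rp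
  obtain ⟨hsurj, hprop⟩ := (AlgebraicGeometry.Scheme.ofArrows_mem_precoverage_iff _).1 hRp
  have hpt : ∀ x : T.left, ∃ (i : ι) (V : (Y i).Opens), IsAffineOpen V ∧ x ∈ (f i).base '' (V : Set (Y i)) := fun x => by
    obtain ⟨i, y, hy⟩ := hsurj x
    obtain ⟨V, hV, hyV, -⟩ := exists_isAffineOpen_mem_and_subset (U := (⊤ : (Y i).Opens)) (x := y) trivial
    exact ⟨i, V, hV, y, hyV, hy⟩
  choose i V hV hx using hpt
  have hop : ∀ x, IsOpen ((f (i x)).base '' (V x : Set (Y (i x)))) := fun x => by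
    haveI := hP.flat (hprop (i x))
    haveI := hP.lfp (hprop (i x))
    exact (f (i x)).isOpenMap _ (V x).2
  obtain ⟨t, ht⟩ := (isCompact_univ (X := T.left)).elim_finite_subcover _ hop
    fun x _ => Set.mem_iUnion.2 ⟨x, hx x⟩
  refine ⟨⟨↥t, inferInstance, fun a => Over.mk (((V a.1).ι ≫ f (i a.1)) ≫ T.hom),
    fun a => Over.homMk ((V a.1).ι ≫ f (i a.1)) rfl, fun a => hV a.1,
    fun a => P.comp_mem _ _ (hP.openImm _) (hprop _), fun x => ?_⟩, fun a => ?_⟩
  · obtain ⟨a, ha, y, hy, rfl⟩ := Set.mem_iUnion₂.1 (ht (Set.mem_univ x))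
    exact ⟨⟨a, ha⟩, ⟨y, hy⟩, rfl⟩
  · have h := Sieve.downward_closed (Sieve.overEquiv T R) (hRS _ _ ⟨i a.1⟩) (V a.1).ι
    exact (Sieve.overEquiv_iff R _).1 h

variable {I : Type u} [SmallCategory I] [IsCofiltered I] (D : I ⥤ Over S) (c : Cone D)
  (hc : IsLimit ((Over.forget S).mapCone c)) [∀ i, IsAffine (D.obj i).left] [IsAffine c.pt.left]

omit [IsCofiltered I] [IsAffine c.pt.left] in
theorem isAffineHom_diag (i j : I) (a : i ⟶ j) : IsAffineHom ((D ⋙ Over.forget S).map a) :=
  isAffineHom_of_isAffine (D.map a).left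

include hc in
/-- A covering of the limit descends to a stage. -/
theorem Cov.descend (hP : Good P) (C : Cov P c.pt) :
    ∃ (l : I) (U₀ : C.ι → Over S) (u₀ : ∀ a, U₀ a ⟶ D.obj l) (q : ∀ a, C.U a ⟶ U₀ a),
      (∀ a, IsAffine (U₀ a).left) ∧ (∀ a, P (u₀ a).left) ∧ (∀ x : (D.obj l).left, ∃ a y, (u₀ a).left y = x) ∧
      ∀ a, IsPullback (q a).left (C.u a).left (u₀ a).left (c.π.app l).left := by
  classical
  let D₁ := D ⋙ Over.forget S
  let c₁ := (Over.forget S).mapCone c
  haveI hA : ∀ i, IsAffine (D₁.obj i) := fun i => inferInstanceAs (IsAffine (D.obj i).left)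
  haveI := isAffineHom_diag D
  have wc : ∀ {i j : I} (a : i ⟶ j), c₁.π.app i ≫ D₁.map a = c₁.π.app j := fun a => c₁.w a
  have hone : ∀ a : C.ι, ∃ (i : I) (Xi : Scheme.{u}) (fi : Xi ⟶ D₁.obj i) (q : (C.U a).left ⟶ Xi),
      IsAffine Xi ∧ P fi ∧ IsPullback q (C.u a).left fi (c₁.π.app i) := by
    intro a
    haveI := C.aff a
    let f : (C.U a).left ⟶ c₁.pt := (C.u a).left
    haveI : LocallyOfFinitePresentation f := hP.lfp (C.prop a)
    haveI : IsAffine c₁.pt := inferInstanceAs (IsAffine c.pt.left)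
    haveI : IsAffineHom f := isAffineHom_of_isAffine _
    obtain ⟨i, Xi, fi, g, h₁, h₂, h₃, sq⟩ := Groth.Agent.S0591.result D₁ c₁ hc (C.U a).left f
    haveI : CompactSpace Xi := QuasiCompact.compactSpace_of_compactSpace fi
    haveI : QuasiSeparatedSpace Xi := quasiSeparatedSpace_of_quasiSeparated fi
    obtain ⟨j, φ, A, B, a', b', pY, pX, hY, hX, ha'⟩ := Groth.Agent.S9186.result D₁ c₁ hc i fi (𝟙 _)
      f (𝟙 _) (c₁.π.app i) g (IsPullback.of_vert_isIso ⟨by simp⟩) sq
    haveI : IsAffineHom (pullback.snd fi (D₁.map φ)) := snd_of_squares (Q := @IsAffineHom) hY hX ha'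
    haveI : IsAffine (pullback fi (D₁.map φ)) := isAffine_of_isAffineHom (pullback.snd fi (D₁.map φ))
    haveI : LocallyOfFinitePresentation (pullback.snd fi (D₁.map φ)) :=
      MorphismProperty.pullback_snd (P := @LocallyOfFinitePresentation) _ _ h₁
    let g' : (C.U a).left ⟶ pullback fi (D₁.map φ) := pullback.lift g ((C.u a).left ≫ c₁.π.app j)
      (by rw [Category.assoc]; exact sq.w.trans (congrArg _ (wc φ).symm))
    have sq' : IsPullback g' (C.u a).left (pullback.snd fi (D₁.map φ)) (c₁.π.app j) := by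
      refine IsPullback.of_right ?_ (pullback.lift_snd _ _ _) (IsPullback.of_hasPullback fi (D₁.map φ))
      convert! sq using 1
      · exact pullback.lift_fst _ _ _
      · exact wc φ
    obtain ⟨k, ψ, hk⟩ := hP.descend D₁ c₁ hc j (pullback.snd fi (D₁.map φ)) (C.u a).left g' sq' (C.prop a)
    refine ⟨k, _, pullback.snd (pullback.snd fi (D₁.map φ)) (D₁.map ψ),
      pullback.lift g' ((C.u a).left ≫ c₁.π.app k) (by rw [Category.assoc]; exact sq'.w.trans (congrArg _ (wc ψ).symm)), inferInstance, hk, ?_⟩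
    refine IsPullback.of_right ?_ (pullback.lift_snd _ _ _) (IsPullback.of_hasPullback _ (D₁.map ψ))
    convert! sq' using 1
    · exact pullback.lift_fst _ _ _
    · exact wc ψ
  choose i Xi fi q hXi hfi sq using hone
  haveI := C.fin
  haveI := Fintype.ofFinite C.ι
  obtain ⟨l, hl⟩ := IsCofiltered.inf_objs_exists (Finset.univ.image i)
  let φ : ∀ a, l ⟶ i a := fun a => (hl (Finset.mem_image_of_mem i (Finset.mem_univ a))).some
  let w : ∀ a, pullback (fi a) (D₁.map (φ a)) ⟶ D₁.obj l := fun a => pullback.snd _ _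
  have hw : ∀ a, P (w a) := fun a => haveI := hP.bc; MorphismProperty.pullback_snd _ _ (hfi a)
  have hopen : IsOpen (⋃ a, Set.range (w a).base) := isOpen_iUnion fun a => by
    haveI := hP.flat (hw a)
    haveI := hP.lfp (hw a)
    exact (w a).isOpenMap.isOpen_range
  let V : (D₁.obj l).Opens := ⟨_, hopen⟩
  have hV : c₁.π.app l ⁻¹ᵁ V = ⊤ := by
    refine eq_top_iff.2 fun x _ => ?_
    obtain ⟨a, y, hy⟩ := C.surj x
    have hqy : fi a (q a y) = D₁.map (φ a) (c₁.π.app l x) := by
      refine (congr($((sq a).w).base y)).trans ?_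
      refine (congrArg (c₁.π.app (i a)) hy).trans ?_
      exact (congr($(wc (φ a)).base x)).symm
    obtain ⟨z, -, hz⟩ := Scheme.Pullback.exists_preimage_pullback (q a y) (c₁.π.app l x) hqy
    exact Set.mem_iUnion.2 ⟨a, z, hz⟩
  haveI : ∀ i, CompactSpace (D₁.obj i) := fun i => inferInstance
  obtain ⟨m, ψ, hm⟩ := exists_map_eq_top D₁ c₁ hc V hV
  let U₀ : C.ι → Over S := fun a =>
    Over.mk (pullback.snd (fi a) (D₁.map (ψ ≫ φ a)) ≫ (D.obj m).hom)
  let u₀ : ∀ a, U₀ a ⟶ D.obj m := fun a => Over.homMk (pullback.snd (fi a) (D₁.map (ψ ≫ φ a))) rfl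
  refine ⟨m, U₀, u₀, fun a => Over.homMk
    (pullback.lift (q a) ((C.u a).left ≫ c₁.π.app m) (by rw [Category.assoc]; exact (sq a).w.trans (congrArg _ (wc (ψ ≫ φ a)).symm))) ?_, fun a => ?_,
    fun a => ?_, fun x => ?_, fun a => ?_⟩
  · show pullback.lift _ _ _ ≫ pullback.snd _ _ ≫ (D.obj m).hom = (C.U a).hom
    rw [pullback.lift_snd_assoc]
    refine (Category.assoc _ _ _).trans ?_
    refine (congrArg _ (Over.w (c.π.app m))).trans ?_
    exact Over.w (C.u a)
  · haveI := hXi a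
    exact inferInstanceAs (IsAffine (pullback (fi a) (D₁.map (ψ ≫ φ a))))
  · haveI := hP.bc
    exact MorphismProperty.pullback_snd _ _ (hfi a)
  · obtain ⟨a, z, hz⟩ := Set.mem_iUnion.1 (hm.ge (Set.mem_univ x) : D₁.map ψ x ∈ ⋃ a, Set.range (w a).base)
    have h' : fi a (pullback.fst (fi a) (D₁.map (φ a)) z) = D₁.map (ψ ≫ φ a) x := by
      rw [← Scheme.Hom.comp_apply, pullback.condition, Scheme.Hom.comp_apply, D₁.map_comp,
        Scheme.Hom.comp_apply]
      exact congrArg _ hz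
    obtain ⟨y, -, hy⟩ := Scheme.Pullback.exists_preimage_pullback _ x h'
    exact ⟨a, y, hy⟩
  · refine IsPullback.of_right ?_ (pullback.lift_snd _ _ _) (IsPullback.of_hasPullback (fi a) (D₁.map (ψ ≫ φ a)))
    convert! sq a using 1
    · exact pullback.lift_fst _ _ _
    · exact wc (ψ ≫ φ a)

/-- Lift to a base change. -/
abbrev bcLift {T U T' Z : Over S} (u : U ⟶ T) (g : T' ⟶ T) (a : Z ⟶ U) (b : Z ⟶ T') (w : a ≫ u = b ≫ g) :
    Z ⟶ bcObj u g :=
  Over.homMk (pullback.lift a.left b.left (congrArg CommaMorphism.left w))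
    ((Category.assoc _ _ _).symm.trans ((congrArg (· ≫ U.hom) (pullback.lift_fst _ _ _)).trans (Over.w a)))

omit [IsCofiltered I] in
theorem bcLift_fst {T U T' Z : Over S} (u : U ⟶ T) (g : T' ⟶ T) (a : Z ⟶ U) (b : Z ⟶ T') (w : a ≫ u = b ≫ g) :
    bcLift u g a b w ≫ bcFst u g = a :=
  Over.OverMorphism.ext (pullback.lift_fst _ _ _)

omit [IsCofiltered I] in
theorem bcLift_snd {T U T' Z : Over S} (u : U ⟶ T) (g : T' ⟶ T) (a : Z ⟶ U) (b : Z ⟶ T') (w : a ≫ u = b ≫ g) :
    bcLift u g a b w ≫ bcSnd u g = b :=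
  Over.OverMorphism.ext (pullback.lift_snd _ _ _)

omit [IsCofiltered I] [∀ i, IsAffine (D.obj i).left] [IsAffine c.pt.left] in
theorem isPullback_bcLift {i j : I} (φ : j ⟶ i) {U V : Over S} (u : U ⟶ D.obj i) (v : V ⟶ c.pt)
    (q : V ⟶ U) (sq : IsPullback q.left v.left u.left (c.π.app i).left)
    (w : q ≫ u = (v ≫ c.π.app j) ≫ D.map φ) :
    IsPullback (bcLift u (D.map φ) q (v ≫ c.π.app j) w).left v.left (bcSnd u (D.map φ)).left (c.π.app j).left := by
  refine IsPullback.of_right ?_ (pullback.lift_snd _ _ _) (IsPullback.of_hasPullback u.left (D.map φ).left)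
  convert! sq using 1
  · exact pullback.lift_fst _ _ _
  · exact congrArg CommaMorphism.left (c.w φ)

include hc in
/-- A covering of the limit descends to a stage over a given one, with the same indices. -/
theorem Cov.descendOver (hP : Good P) (C : Cov P c.pt) (i : I) :
    ∃ (m : I) (_ : m ⟶ i) (U₀ : C.ι → Over S) (u₀ : ∀ a, U₀ a ⟶ D.obj m) (q : ∀ a, C.U a ⟶ U₀ a),
      (∀ a, IsAffine (U₀ a).left) ∧ (∀ a, P (u₀ a).left) ∧ (∀ x : (D.obj m).left, ∃ a y, (u₀ a).left y = x) ∧
      ∀ a, IsPullback (q a).left (C.u a).left (u₀ a).left (c.π.app m).left := by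
  obtain ⟨l, U₀, u₀, q, haff, hprop, hsurj, sq⟩ := Cov.descend D c hc hP C
  obtain ⟨m, a₀, b₀, -⟩ := IsCofilteredOrEmpty.cone_objs i l
  let C₀ : Cov P (D.obj l) := ⟨C.ι, C.fin, U₀, u₀, haff, hprop, hsurj⟩
  let C₁ := C₀.bc hP (D.map b₀)
  have w : ∀ a, q a ≫ u₀ a = (C.u a ≫ c.π.app m) ≫ D.map b₀ := fun a => by
    rw [Category.assoc, c.w]
    exact Over.OverMorphism.ext (sq a).w
  exact ⟨m, a₀, C₁.U, C₁.u, fun a => bcLift _ _ (q a) (C.u a ≫ c.π.app m) (w a), C₁.aff, C₁.prop, C₁.surj,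
    fun a => isPullback_bcLift D c b₀ _ _ _ (sq a) (w a)⟩

end Groth.Agent.ShLim95
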